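import Groth.Agent.H17.P1Fibre
import Groth.Prelude.Def_W4c5nonratstablectREq

/-!
# Lines in affine space link points of retract rational varieties

* `chartK K`: the affine line `Spec K[t]` as an open subscheme of `REq.P1K K`.
* `elemLink_of_retract`: if `U → V → U` is the identity with `V` open in affine space, any two `K`-points of
  `U` are directly R-linked in `U`.
-/

set_option autoImplicit false
set_option linter.style.haveILetI false
universe u

open CategoryTheory CategoryTheory.Limits AlgebraicGeometry MvPolynomial CohB1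

namespace Groth.Agent.H25REq

open Groth.Agent.H11Proj.ProjSpace
open Groth.Agent.H17.P1Fibre

attribute [local instance] MvPolynomial.gradedAlgebra

/-- A chart of the projective line over an extension of the coefficient ring, as an open immersion. -/
theorem exists_chart_baseChange (R : Type u) [CommRing R] (κ : Type u) [Field κ] [Algebra R κ]
    (g : Spec (CommRingCat.of κ) ⟶ Spec (CommRingCat.of R))
    (hg : g = Spec.map (CommRingCat.ofHom (algebraMap R κ))) (i : Fin (1 + 1)) :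
    ∃ e : Spec (CommRingCat.of (MvPolynomial (σ i) κ)) ⟶ pullback (CohB1.ProjSpace.toSpec 1 R) g,
      IsOpenImmersion e ∧
        e ≫ pullback.snd _ _ = Spec.map (CommRingCat.ofHom (algebraMap κ (MvPolynomial (σ i) κ))) := by
  subst hg
  haveI := isIso_chartInv R i
  haveI : IsIso (Spec.map (CommRingCat.ofHom (chartInv 1 R i))) := inferInstance
  haveI : IsOpenImmersion (chart R i) := by
    unfold chart
    haveI : IsOpenImmersion (Proj.awayι (polyGrading 1 R) (X i)
      (Groth.Agent.H11Proj.ProjSpace.X_mem 1 R i) one_pos) := by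
      delta Proj.awayι
      exact IsOpenImmersion.comp _ _
    exact IsOpenImmersion.comp (Spec.map (CommRingCat.ofHom (chartInv 1 R i))) (Proj.awayι (polyGrading 1 R) (X i)
      (Groth.Agent.H11Proj.ProjSpace.X_mem 1 R i) one_pos)
  let τ : TensorProduct R (MvPolynomial (σ i) R) κ ≃ₐ[R] MvPolynomial (σ i) κ :=
    (Algebra.TensorProduct.comm R (MvPolynomial (σ i) R) κ).trans
      ((MvPolynomial.algebraTensorAlgEquiv (σ := σ i) R κ).restrictScalars R)
  haveI : IsIso (CommRingCat.ofHom τ.toRingEquiv.toRingHom) :=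
    (ConcreteCategory.isIso_iff_bijective _).2 τ.bijective
  let f := CohB1.ProjSpace.toSpec 1 R
  let g := Spec.map (CommRingCat.ofHom (algebraMap R κ))
  let c : pullback (Spec.map (CommRingCat.ofHom (algebraMap R (MvPolynomial (σ i) R)))) g ⟶ pullback f g :=
    pullback.map _ _ _ _ (chart R i) (𝟙 _) (𝟙 _)
      ((Category.comp_id _).trans (chart_toSpec R i).symm) ((Category.comp_id _).trans (Category.id_comp _).symm)
  haveI : IsOpenImmersion c := inferInstanceAs (IsOpenImmersion (pullback.map _ _ _ _ _ _ _ _ _))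
  refine ⟨Spec.map (CommRingCat.ofHom τ.toRingEquiv.toRingHom) ≫
    (pullbackSpecIso R (MvPolynomial (σ i) R) κ).inv ≫ c, inferInstance, ?_⟩
  rw [Category.assoc, Category.assoc, pullback.lift_snd, Category.comp_id, pullbackSpecIso_inv_snd, ← Spec.map_comp]
  congr 1
  exact CommRingCat.hom_ext (RingHom.ext fun x => by simp [τ, MvPolynomial.smul_eq_C_mul])

/-- The affine line as an open subscheme of `P^1` over a field. -/
theorem exists_affineLine (K : Type u) [Field K] :
    ∃ e : Spec (CommRingCat.of (MvPolynomial (σ 0) K)) ⟶ REq.P1K K, IsOpenImmersion e ∧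
      e ≫ REq.P1K.toSpec K = Spec.map (CommRingCat.ofHom (algebraMap K (MvPolynomial (σ 0) K))) := by
  letI : Algebra A.{u} K := ((Int.castRingHom K).comp ULift.ringEquiv.toRingHom).toAlgebra
  exact exists_chart_baseChange A.{u} K (specULiftZIsTerminal.from _) (specULiftZIsTerminal.hom_ext _ _) 0

variable {k : Type u} [Field k]

theorem elemLink_of_retract {Y : Scheme.{u}} (g : Y ⟶ Spec (CommRingCat.of k)) {n : ℕ}
    (V : (Spec (CommRingCat.of (MvPolynomial (Fin n) k))).Opens) (a : Y ⟶ (V : Scheme.{u}))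
    (b : (V : Scheme.{u}) ⟶ Y) (hab : a ≫ b = 𝟙 Y)
    (ha : a ≫ V.ι ≫ Spec.map (CommRingCat.ofHom (algebraMap k (MvPolynomial (Fin n) k))) = g)
    (hb : b ≫ g = V.ι ≫ Spec.map (CommRingCat.ofHom (algebraMap k (MvPolynomial (Fin n) k))))
    (K : Type u) [Field K] [Algebra k K] (P Q : REq.Pts g K) : REq.ElemLink g K P Q := by
  obtain ⟨e, he, hes⟩ := exists_affineLine K
  obtain ⟨φ, hφ⟩ := Spec.map_surjective (P.1 ≫ a ≫ V.ι)
  obtain ⟨ψ, hψ⟩ := Spec.map_surjective (Q.1 ≫ a ≫ V.ι)
  have hbase : ∀ (A : REq.Pts g K) (χ : CommRingCat.of (MvPolynomial (Fin n) k) ⟶ CommRingCat.of K),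
      Spec.map χ = A.1 ≫ a ≫ V.ι → ∀ c : k, χ.hom (C c) = algebraMap k K c := by
    intro A χ hχ c
    have h1 : Spec.map (CommRingCat.ofHom (algebraMap k (MvPolynomial (Fin n) k)) ≫ χ) =
        Spec.map (CommRingCat.ofHom (algebraMap k K)) := by
      rw [Spec.map_comp, hχ, Category.assoc, Category.assoc, ha, A.2]
    exact congrArg (fun r => r.hom c) (Spec.map_injective h1)
  let t : MvPolynomial (σ 0) K := X ⟨1, by decide⟩
  let L : MvPolynomial (Fin n) k →+* MvPolynomial (σ 0) K :=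
    eval₂Hom ((C : K →+* MvPolynomial (σ 0) K).comp (algebraMap k K))
      fun i => C (φ.hom (X i)) + t * C (ψ.hom (X i) - φ.hom (X i))
  let ℓ := Spec.map (CommRingCat.ofHom L)
  let W := ℓ ⁻¹ᵁ V
  let ev : K → (Spec (CommRingCat.of K) ⟶ Spec (CommRingCat.of (MvPolynomial (σ 0) K))) := fun v =>
    Spec.map (CommRingCat.ofHom (MvPolynomial.eval fun _ => v))
  have hev0 : ev 0 ≫ ℓ = P.1 ≫ a ≫ V.ι := by
    rw [← hφ, ← Spec.map_comp]
    refine congrArg Spec.map (CommRingCat.hom_ext (MvPolynomial.ringHom_ext (fun c => ?_) fun i => ?_))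
    · simp [L, hbase P φ hφ c]
    · simp [L, t]
  have hev1 : ev 1 ≫ ℓ = Q.1 ≫ a ≫ V.ι := by
    rw [← hψ, ← Spec.map_comp]
    refine congrArg Spec.map (CommRingCat.hom_ext (MvPolynomial.ringHom_ext (fun c => ?_) fun i => ?_))
    · simp [L, hbase Q ψ hψ c]
    · simp [L, t]
  have hlift : ∀ (v : K) (A : REq.Pts g K), ev v ≫ ℓ = A.1 ≫ a ≫ V.ι →
      ∃ c : Spec (CommRingCat.of K) ⟶ (W : Scheme.{u}), c ≫ W.ι = ev v ∧ c ≫ (ℓ ∣_ V) ≫ b = A.1 := by
    intro v A hA
    have hr : Set.range (ev v) ⊆ Set.range W.ι := by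
      rw [Scheme.Opens.range_ι]
      rintro _ ⟨z, rfl⟩
      show (ev v ≫ ℓ) z ∈ V
      rw [hA, ← Category.assoc]
      exact ((A.1 ≫ a) z).2
    refine ⟨IsOpenImmersion.lift W.ι (ev v) hr, IsOpenImmersion.lift_fac _ _ _, ?_⟩
    have : IsOpenImmersion.lift W.ι (ev v) hr ≫ (ℓ ∣_ V) = A.1 ≫ a := by
      rw [← cancel_mono V.ι, Category.assoc, morphismRestrict_ι, IsOpenImmersion.lift_fac_assoc, Category.assoc, hA]
    rw [reassoc_of% this, hab, Category.comp_id]
  obtain ⟨c₀, hc₀, hc₀'⟩ := hlift 0 P hev0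
  obtain ⟨c₁, hc₁, hc₁'⟩ := hlift 1 Q hev1
  have hfac := e.isoImage_hom_ι W
  have hs : ∀ (v : K) (c : Spec (CommRingCat.of K) ⟶ (W : Scheme.{u})), c ≫ W.ι = ev v →
      (c ≫ (e.isoImage W).hom) ≫ (e ''ᵁ W).ι ≫ REq.P1K.toSpec K = 𝟙 _ := by
    intro v c hc
    rw [Category.assoc, ← Category.assoc (e.isoImage W).hom, hfac, Category.assoc, ← Category.assoc c, hc, hes,
      ← Spec.map_comp, ← Spec.map_id]
    exact congrArg Spec.map (CommRingCat.hom_ext (RingHom.ext fun x => by simp))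
  refine ⟨e ''ᵁ W, (e.isoImage W).inv ≫ (ℓ ∣_ V) ≫ b, c₀ ≫ (e.isoImage W).hom, c₁ ≫ (e.isoImage W).hom,
    ?_, hs 0 c₀ hc₀, hs 1 c₁ hc₁, ?_, ?_⟩
  · rw [← cancel_epi (e.isoImage W).hom]
    simp only [Iso.hom_inv_id_assoc, Category.assoc]
    rw [hb, morphismRestrict_ι_assoc, reassoc_of% hfac, reassoc_of% hes]
    congr 1
    rw [← Spec.map_comp, ← Spec.map_comp]
    exact congrArg Spec.map (CommRingCat.hom_ext (RingHom.ext fun x => by simp [L]))
  · rw [Category.assoc, Iso.hom_inv_id_assoc]; exact hc₀'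
  · rw [Category.assoc, Iso.hom_inv_id_assoc]; exact hc₁'

/-- A nonempty open of affine space over an infinite field has a rational point. -/
theorem exists_point_of_infinite [Infinite k] {n : ℕ}
    (V : (Spec (CommRingCat.of (MvPolynomial (Fin n) k))).Opens) (hV : (V : Set ↥(Spec (CommRingCat.of (MvPolynomial (Fin n) k)))).Nonempty) :
    ∃ p : Spec (CommRingCat.of k) ⟶ (V : Scheme.{u}),
      p ≫ V.ι ≫ Spec.map (CommRingCat.ofHom (algebraMap k (MvPolynomial (Fin n) k))) = 𝟙 _ := by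
  obtain ⟨x, hx⟩ := hV
  obtain ⟨_, ⟨h, rfl⟩, hxh, hhV⟩ :=
    PrimeSpectrum.isTopologicalBasis_basic_opens.exists_subset_of_mem_open hx V.isOpen
  obtain ⟨v, hv⟩ : ∃ v : Fin n → k, MvPolynomial.eval v h ≠ 0 := by
    by_contra! hc
    exact hxh (by rw [show h = 0 from MvPolynomial.funext fun v => by simpa using hc v]; exact Ideal.zero_mem _)
  let p := Spec.map (CommRingCat.ofHom (MvPolynomial.eval v))
  have hr : Set.range p ⊆ Set.range V.ι := by
    rw [Scheme.Opens.range_ι]
    rintro _ ⟨z, rfl⟩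
    refine hhV (show MvPolynomial.eval v h ∉ z.asIdeal from ?_)
    rw [(Ideal.eq_bot_or_top z.asIdeal).resolve_right z.isPrime.ne_top, Ideal.mem_bot]
    exact hv
  refine ⟨IsOpenImmersion.lift V.ι p hr, ?_⟩
  rw [IsOpenImmersion.lift_fac_assoc, ← Spec.map_comp, ← Spec.map_id]
  exact congrArg Spec.map (CommRingCat.hom_ext (RingHom.ext fun x => by simp))

end Groth.Agent.H25REq
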