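import Groth.Agent.H17.P1Fibre
import Groth.Prelude.Def_W4c5nonratstablectREq

/-!
# `P^1` over a field is irreducible
-/

set_option autoImplicit false
set_option linter.style.haveILetI false
universe u

open CategoryTheory CategoryTheory.Limits AlgebraicGeometry MvPolynomial CohB1

namespace Groth.Agent.H25REq

open Groth.Agent.H11Proj.ProjSpace
open Groth.Agent.H17.P1Fibre

/-- A space which is the union of two irreducible open sets with a common point is irreducible. -/
theorem irreducible_of_two {T : Type*} [TopologicalSpace T] (W W' : Set T) (hWo : IsOpen W) (hWo' : IsOpen W')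
    (hun : W ∪ W' = Set.univ) (hW : IsIrreducible W) (hW' : IsIrreducible W') (z : T) (hz : z ∈ W) (hz' : z ∈ W') :
    IrreducibleSpace T := by
  haveI : Nonempty T := ⟨z⟩
  have key : ∀ u : Set T, IsOpen u → u.Nonempty → (W ∩ u).Nonempty := by
    rintro u hu ⟨x, hx⟩
    rcases hun.ge (Set.mem_univ x) with h | h
    · exact ⟨x, h, hx⟩
    · obtain ⟨y, hy, hyu, hyW, -⟩ := hW'.2 u (W ∩ W') hu (hWo.inter hWo') ⟨x, h, hx⟩ ⟨z, hz', hz, hz'⟩
      exact ⟨y, hyW, hyu⟩
  refine { toPreirreducibleSpace := ⟨?_⟩, toNonempty := ⟨z⟩ }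
  rintro u v hu hv ⟨x, -, hx⟩ ⟨y, -, hy⟩
  obtain ⟨w, -, hw⟩ := hW.2 u v hu hv (key u hu ⟨x, hx⟩) (key v hv ⟨y, hy⟩)
  exact ⟨w, trivial, hw⟩

variable (R : Type u) [CommRing R]

theorem irreducibleSpace_pullback_chart (κ : Type u) [Field κ] [Algebra R κ] (i : Fin (1 + 1)) :
    IrreducibleSpace ↥(pullback
      (Spec.map (CommRingCat.ofHom (algebraMap R (MvPolynomial (σ i) R))))
      (Spec.map (CommRingCat.ofHom (algebraMap R κ)))) := by
  haveI : IsDomain (TensorProduct R κ (MvPolynomial (σ i) R)) :=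
    MulEquiv.isDomain (MvPolynomial (σ i) κ)
      (MvPolynomial.algebraTensorAlgEquiv (σ := σ i) R κ).toMulEquiv
  haveI : IsDomain (TensorProduct R (MvPolynomial (σ i) R) κ) :=
    MulEquiv.isDomain (TensorProduct R κ (MvPolynomial (σ i) R))
      (Algebra.TensorProduct.comm R (MvPolynomial (σ i) R) κ).toMulEquiv
  let e := pullbackSpecIso R (MvPolynomial (σ i) R) κ
  haveI : IrreducibleSpace ↥(Spec (CommRingCat.of (TensorProduct R (MvPolynomial (σ i) R) κ))) :=
    inferInstanceAs (IrreducibleSpace (PrimeSpectrum _))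
  have h := (IrreducibleSpace.isIrreducible_univ ↥(Spec (CommRingCat.of (TensorProduct R (MvPolynomial (σ i) R) κ)))).image
    e.inv e.inv.continuous.continuousOn
  rw [Set.image_univ, range_of_isIso e.inv] at h
  exact irreducibleSpace_def _ |>.mpr h

theorem irreducibleSpace_fibre (κ : Type u) [Field κ] [Algebra R κ] (g : Spec (CommRingCat.of κ) ⟶ Spec (CommRingCat.of R))
    (hg : g = Spec.map (CommRingCat.ofHom (algebraMap R κ))) :
    IrreducibleSpace ↥(pullback (CohB1.ProjSpace.toSpec 1 R) g) := by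
  let f := CohB1.ProjSpace.toSpec 1 R
  let W : Fin (1 + 1) → Set ↥(pullback f g) := fun i =>
    (pullback.fst f g) ⁻¹' SetLike.coe (Proj.basicOpen (polyGrading 1 R) (X i))
  have hW : ∀ i, IsIrreducible (W i) := fun i => by
    have hirr : IrreducibleSpace ↥(pullback (chart R i ≫ f) g) := by
      rw [chart_toSpec, hg]
      exact irreducibleSpace_pullback_chart R κ i
    have hr : W i = Set.range (pullback.snd (chart R i) (pullback.fst f g)) := by
      rw [Scheme.Pullback.range_snd, range_chart]; rfl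
    rw [hr]
    have h1 : IsIrreducible (Set.univ : Set ↥(pullback (chart R i ≫ f) g)) :=
      IrreducibleSpace.isIrreducible_univ _
    have h2 := h1.image ((pullbackRightPullbackFstIso f g (chart R i)).inv ≫
      pullback.snd (chart R i) (pullback.fst f g)) (Scheme.Hom.continuous _).continuousOn
    rwa [Set.image_univ, Scheme.Hom.comp_base, TopCat.coe_comp, Set.range_comp,
      range_of_isIso (pullbackRightPullbackFstIso f g (chart R i)).inv,
      Set.image_univ] at h2
  let v : σ 0 → κ := fun _ => 1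
  let a : Spec (CommRingCat.of κ) ⟶ CohB1.ProjSpace 1 R :=
    Spec.map (CommRingCat.ofHom (MvPolynomial.eval₂Hom (algebraMap R κ) v)) ≫ chart R 0
  have hw : a ≫ f = 𝟙 _ ≫ g := by
    rw [Category.id_comp, hg, Category.assoc, chart_toSpec, ← Spec.map_comp]
    congr 1
    exact CommRingCat.hom_ext (RingHom.ext fun r => by simp)
  let q : Spec (CommRingCat.of κ) ⟶ pullback f g :=
    pullback.lift a (𝟙 _) hw
  let z : ↥(Spec (CommRingCat.of κ)) := IsLocalRing.closedPoint κ
  have hq : ∀ i, q z ∈ W i := fun i => by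
    show (q ≫ pullback.fst f g) z ∈ Proj.basicOpen (polyGrading 1 R) (X i)
    rw [pullback.lift_fst]
    let P : PrimeSpectrum (HomogeneousLocalization.Away (polyGrading 1 R) (X (0 : Fin (1 + 1)))) :=
      PrimeSpectrum.comap ((MvPolynomial.eval₂Hom (algebraMap R κ) v).comp (chartInv 1 R 0)) z
    have h1 : P ∈ PrimeSpectrum.basicOpen (HomogeneousLocalization.Away.isLocalizationElem
        (Groth.Agent.H11Proj.ProjSpace.X_mem 1 R 0) (Groth.Agent.H11Proj.ProjSpace.X_mem 1 R i)) := by
      rw [PrimeSpectrum.mem_basicOpen]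
      have hbot : z.asIdeal = ⊥ := (Ideal.eq_bot_or_top z.asIdeal).resolve_right z.isPrime.ne_top
      show ¬ (MvPolynomial.eval₂Hom (algebraMap R κ) v (chartInv 1 R 0 _) ∈ z.asIdeal)
      rw [hbot, Ideal.mem_bot, chartInv_mk, pow_one]
      by_cases h : i = 0 <;> simp [dehom, v, h]
    rw [← Proj.awayι_preimage_basicOpen (polyGrading 1 R)
      (Groth.Agent.H11Proj.ProjSpace.X_mem 1 R 0) one_pos
      (Groth.Agent.H11Proj.ProjSpace.X_mem 1 R i) one_pos] at h1
    exact h1
  have hun : (Set.univ : Set ↥(pullback f g)) = W 0 ∪ W 1 := by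
    refine (Set.eq_univ_of_forall fun x => ?_).symm
    have hx : pullback.fst f g x ∈ (⊤ : (Proj (polyGrading 1 R)).Opens) := trivial
    rw [← iSup_basicOpen 1 R] at hx
    obtain ⟨i, hi⟩ := TopologicalSpace.Opens.mem_iSup.mp hx
    fin_cases i
    · exact Or.inl hi
    · exact Or.inr hi
  exact irreducible_of_two (W 0) (W 1) ((Proj.basicOpen (polyGrading 1 R) (X 0)).isOpen.preimage (pullback.fst f g).continuous) ((Proj.basicOpen (polyGrading 1 R) (X 1)).isOpen.preimage (pullback.fst f g).continuous) hun.symm (hW 0) (hW 1) (q z) (hq 0) (hq 1)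

/-- The projective line over a field is irreducible. -/
theorem irreducibleSpace_P1K (K : Type u) [Field K] : IrreducibleSpace ↥(REq.P1K K) := by
  letI : Algebra A.{u} K := ((Int.castRingHom K).comp ULift.ringEquiv.toRingHom).toAlgebra
  exact irreducibleSpace_fibre A.{u} K (specULiftZIsTerminal.from _) (specULiftZIsTerminal.hom_ext _ _)

end Groth.Agent.H25REq
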