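import Groth.Agent.H28Neron.Extend
import Groth.Agent.H26Smooth.ProjSmooth
import Groth.Agent.H25REq.Line
import Groth.Agent.H05EGA4.DimFibre
import Groth.Agent.H25REq.P1Irred
import Groth.Agent.H27Weil.Geometry
import Groth.Agent.H8Props.Reduced
import Groth.Prelude.Def_P1
import Mathlib

/-!
# Lines over a function field spread out to projective lines over opens
-/

set_option autoImplicit false
set_option linter.style.haveILetI false
universe u v

open CategoryTheory CategoryTheory.Limits AlgebraicGeometry TopologicalSpace CohB1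

namespace Groth.Agent.H25REq

open Groth.Agent.H11Proj.ProjSpace Groth.Agent.H17.P1Fibre in
/-- The local rings of a fibre of the projective line have dimension at most one. -/
theorem stalkDim_fibre_le (R : Type u) [CommRing R] (κ : Type u) [Field κ] [Algebra R κ]
    (g : Spec (CommRingCat.of κ) ⟶ Spec (CommRingCat.of R))
    (hg : g = Spec.map (CommRingCat.ofHom (algebraMap R κ))) (x : ↥(pullback (CohB1.ProjSpace.toSpec 1 R) g)) :
    ringKrullDim ((pullback (CohB1.ProjSpace.toSpec 1 R) g).presheaf.stalk x) ≤ 1 := by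
  subst hg
  let f := CohB1.ProjSpace.toSpec 1 R
  let g := Spec.map (CommRingCat.ofHom (algebraMap R κ))
  have hx : pullback.fst f g x ∈ (⊤ : (Proj (polyGrading 1 R)).Opens) := trivial
  rw [← iSup_basicOpen 1 R] at hx
  obtain ⟨i, hi⟩ := TopologicalSpace.Opens.mem_iSup.mp hx
  haveI := isIso_chartInv R i
  haveI : IsIso (Spec.map (CommRingCat.ofHom (chartInv 1 R i))) := inferInstance
  haveI : IsOpenImmersion (chart R i) := by
    unfold chart
    haveI : IsOpenImmersion (Proj.awayι (polyGrading 1 R) (MvPolynomial.X i)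
      (Groth.Agent.H11Proj.ProjSpace.X_mem 1 R i) one_pos) := by
      delta Proj.awayι
      exact IsOpenImmersion.comp _ _
    exact IsOpenImmersion.comp (Spec.map (CommRingCat.ofHom (chartInv 1 R i)))
      (Proj.awayι (polyGrading 1 R) (MvPolynomial.X i) (Groth.Agent.H11Proj.ProjSpace.X_mem 1 R i) one_pos)
  let c : pullback (Spec.map (CommRingCat.ofHom (algebraMap R (MvPolynomial (σ i) R)))) g ⟶ pullback f g :=
    pullback.map _ _ _ _ (chart R i) (𝟙 _) (𝟙 _)
      ((Category.comp_id _).trans (chart_toSpec R i).symm) ((Category.comp_id _).trans (Category.id_comp _).symm)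
  haveI : IsOpenImmersion c := inferInstanceAs (IsOpenImmersion (pullback.map _ _ _ _ _ _ _ _ _))
  obtain ⟨z, hz⟩ : x ∈ Set.range c := by
    rw [Scheme.Pullback.range_map, range_chart]
    exact ⟨hi, by simp only [Scheme.Hom.id_base, TopCat.coe_id, Set.range_id]; trivial⟩
  subst hz
  haveI : IsIso (c.stalkMap z) := inferInstance
  rw [ringKrullDim_eq_of_ringEquiv (asIso (c.stalkMap z)).commRingCatIsoToRingEquiv]
  let τ : TensorProduct R (MvPolynomial (σ i) R) κ ≃ₐ[R] MvPolynomial (σ i) κ :=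
    (Algebra.TensorProduct.comm R (MvPolynomial (σ i) R) κ).trans
      ((MvPolynomial.algebraTensorAlgEquiv (σ := σ i) R κ).restrictScalars R)
  let e := pullbackSpecIso R (MvPolynomial (σ i) R) κ
  haveI : IsIso (e.hom.stalkMap z) := inferInstance
  rw [← ringKrullDim_eq_of_ringEquiv (asIso (e.hom.stalkMap z)).commRingCatIsoToRingEquiv]
  refine le_trans (H05EGA4.DimFibre.stalkDim_le_top _) (le_trans
    (PrimeSpectrum.topologicalKrullDim_eq_ringKrullDim (R := TensorProduct R (MvPolynomial (σ i) R) κ)).le ?_)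
  rw [ringKrullDim_eq_of_ringEquiv τ.toRingEquiv, MvPolynomial.ringKrullDim_of_isNoetherianRing,
    ringKrullDim_eq_zero_of_field, Nat.card_eq_fintype_card, Fintype.card_subtype_compl, Fintype.card_fin,
    Fintype.card_subtype_eq]
  simp

open Groth.Agent.H17.P1Fibre in
/-- The local rings of the projective line over a field have dimension at most one. -/
theorem stalkDim_P1K_le (K : Type u) [Field K] (x : REq.P1K K) :
    ringKrullDim ((REq.P1K K).presheaf.stalk x) ≤ 1 := by
  letI : Algebra A.{u} K := ((Int.castRingHom K).comp ULift.ringEquiv.toRingHom).toAlgebra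
  exact stalkDim_fibre_le A.{u} K (specULiftZIsTerminal.from _) (specULiftZIsTerminal.hom_ext _ _) x

/-- A morphism defined on an open of the projective line over a field extends to the whole line. -/
theorem exists_extend_line {k : Type u} [Field k] {X : Scheme.{u}} (f : X ⟶ Spec (CommRingCat.of k)) [IsProper f]
    (K : Type u) [Field K] [Algebra k K] (U : (REq.P1K K).Opens) (hU : (U : Set (REq.P1K K)).Nonempty)
    (h : (U : Scheme.{u}) ⟶ X) (hh : h ≫ f = U.ι ≫ REq.P1K.toSpec K ≫ REq.specMap k K) :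
    ∃ h' : REq.P1K K ⟶ X, h' ≫ f = REq.P1K.toSpec K ≫ REq.specMap k K ∧ U.ι ≫ h' = h := by
  haveI := irreducibleSpace_P1K K
  let hK : (U : Scheme.{u}) ⟶ pullback f (REq.specMap k K) :=
    pullback.lift h (U.ι ≫ REq.P1K.toSpec K) (by rw [hh, Category.assoc])
  obtain ⟨V, hUV, g, hg, hres, hcodim⟩ := H28Neron.exists_extension_off_codim_two (R := K)
    (REq.P1K.toSpec K) (pullback.snd f (REq.specMap k K)) U (IsOpen.dense U.isOpen hU) hK (pullback.lift_snd _ _ _)
  have hVtop : V = ⊤ := by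
    refine eq_top_iff.mpr fun x _ => ?_
    by_contra hx
    have h2 := (hcodim x hx).trans (stalkDim_P1K_le K x)
    exact absurd (show (2 : ℕ) ≤ 1 by exact_mod_cast h2) (by omega)
  subst hVtop
  refine ⟨(REq.P1K K).topIso.inv ≫ g ≫ pullback.fst _ _, ?_, ?_⟩
  · rw [Category.assoc, Category.assoc, pullback.condition, reassoc_of% hg, ← Category.assoc _ (Scheme.Opens.ι _),
      Scheme.toIso_inv_ι, Category.id_comp]
  · have e : U.ι ≫ (REq.P1K K).topIso.inv = (REq.P1K K).homOfLE hUV := by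
      rw [← cancel_mono (Scheme.Opens.ι ⊤), Category.assoc, Scheme.homOfLE_ι, Scheme.toIso_inv_ι, Category.comp_id]
    rw [reassoc_of% e, reassoc_of% hres]
    exact pullback.lift_fst _ _ _

/-- Morphisms from an open to a separated scheme agreeing after a dominant morphism to it agree. -/
theorem dense_fibre {P V : Scheme.{u}} (p : P ⟶ V) (hp : IsOpenMap p) [IrreducibleSpace V] :
    Dense (p ⁻¹' {genericPoint V}) := by
  refine Dense.preimage (dense_iff_closure_eq.mpr ?_) hp
  exact (genericPoint_spec V).def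

/-- Morphisms on the generic fibre extend to the preimage of an open, for a proper smooth family. -/
theorem exists_spread_fibre {S Y V P Q : Scheme.{u}} (sY : Y ⟶ S) [IsSeparated sY] [LocallyOfFiniteType sY]
    (p : P ⟶ V) [IsProper p] (hp : IsOpenMap p) [IsIntegral V] [IsReduced P] [IsLocallyNoetherian P]
    (sP : P ⟶ S) (j : Q ⟶ P) (q : Q ⟶ Spec V.functionField)
    (hj : IsPullback j q p (V.fromSpecStalk (genericPoint V))) [IrreducibleSpace Q] [IsReduced Q]
    (h : Q ⟶ Y) (hh : h ≫ sY = j ≫ sP) :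
    ∃ (W : V.Opens) (N : P.Opens) (g : (N : Scheme.{u}) ⟶ Y), genericPoint V ∈ W ∧ p ⁻¹ᵁ W ≤ N ∧
      g ≫ sY = N.ι ≫ sP ∧ ∀ (l : Q ⟶ (N : Scheme.{u})), l ≫ N.ι = j → l ≫ g = h := by
  haveI : IsPreimmersion j := MorphismProperty.of_isPullback (P := @IsPreimmersion) hj.flip inferInstance
  haveI : Flat j := MorphismProperty.of_isPullback (P := @Flat) hj.flip inferInstance
  have hrange : Set.range j = p ⁻¹' {genericPoint V} := by
    rw [← hj.isoPullback_hom_fst, Scheme.Hom.comp_base, TopCat.coe_comp, Set.range_comp,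
      Set.range_eq_univ.mpr (show Function.Surjective hj.isoPullback.hom from hj.isoPullback.hom.homeomorph.surjective),
      Set.image_univ, Scheme.Pullback.range_fst]
    congr 1
    refine Set.Subset.antisymm ?_ ?_
    · rintro _ ⟨y, rfl⟩
      have := (Scheme.range_fromSpecStalk (X := V) (x := genericPoint V)).le ⟨y, rfl⟩
      exact ((this : _ ⤳ _).antisymm ((genericPoint_spec V).specializes trivial)).eq
    · rintro _ rfl
      exact ⟨_, Scheme.fromSpecStalk_closedPoint⟩
  haveI : IsDominant j := ⟨by rw [denseRange_iff_closure_range, hrange, (dense_fibre p hp).closure_eq]⟩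
  -- the stalks of the generic fibre are those of the family
  have hiso : ∀ x : Q, IsIso (j.stalkMap x) := fun x => by
    refine (ConcreteCategory.isIso_iff_bijective _).2 ⟨?_, j.stalkMap_surjective x⟩
    have hfl : (j.stalkMap x).hom.Flat := Flat.stalkMap j x
    algebraize [(j.stalkMap x).hom]
    haveI : IsLocalHom (algebraMap (P.presheaf.stalk (j x)) (Q.presheaf.stalk x)) :=
      inferInstanceAs (IsLocalHom (j.stalkMap x).hom)
    haveI : Module.FaithfullyFlat (P.presheaf.stalk (j x)) (Q.presheaf.stalk x) :=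
      Module.FaithfullyFlat.of_flat_of_isLocalHom
    exact FaithfulSMul.algebraMap_injective (P.presheaf.stalk (j x)) (Q.presheaf.stalk x)
  -- local extensions
  have key : ∀ x : Q, ∃ (N : P.Opens) (g : (N : Scheme.{u}) ⟶ Y), j x ∈ N ∧ g ≫ sY = N.ι ≫ sP ∧
      (j ∣_ N) ≫ g = (j ⁻¹ᵁ N).ι ≫ h := fun x => by
    haveI := hiso x
    let φ : Spec (P.presheaf.stalk (j x)) ⟶ Y := Spec.map (inv (j.stalkMap x)) ≫ Q.fromSpecStalk x ≫ h
    have hφ : φ ≫ sY = P.fromSpecStalk (j x) ≫ sP := by
      simp only [φ, Category.assoc, hh]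
      rw [← Scheme.SpecMap_stalkMap_fromSpecStalk_assoc, ← Category.assoc (Spec.map _), ← Spec.map_comp,
        IsIso.hom_inv_id, Spec.map_id, Category.id_comp]
    obtain ⟨N, hxN, g, hg1, hg2⟩ := spread_out_of_isGermInjective' (sX := sP) (sY := sY) (x := j x) φ hφ
    refine ⟨N, g, hxN, hg2, ?_⟩
    have hxO : x ∈ j ⁻¹ᵁ N := hxN
    have : IsDominant ((j ⁻¹ᵁ N).fromSpecStalkOfMem x hxO) := by
      refine ⟨?_⟩
      have hgen : genericPoint Q ∈ j ⁻¹ᵁ N :=
        ((genericPoint_spec Q).mem_open_set_iff (j ⁻¹ᵁ N).isOpen).mpr ⟨x, trivial, hxO⟩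
      refine Dense.mono (s₁ := {(⟨genericPoint Q, hgen⟩ : (j ⁻¹ᵁ N : Q.Opens))}) ?_ ?_
      · rintro _ rfl
        obtain ⟨z, hz⟩ : genericPoint Q ∈ Set.range (Q.fromSpecStalk x) := by
          rw [Scheme.range_fromSpecStalk]; exact (genericPoint_spec Q).specializes trivial
        refine ⟨z, ?_⟩
        apply (j ⁻¹ᵁ N).ι.isOpenEmbedding.injective
        rw [← Scheme.Hom.comp_apply, Scheme.Opens.fromSpecStalkOfMem_ι]
        exact hz
      · refine dense_iff_closure_eq.2 (eq_top_iff.2 fun w _ => specializes_iff_mem_closure.1 ?_)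
        exact (j ⁻¹ᵁ N).ι.isOpenEmbedding.isInducing.specializes_iff.1 ((genericPoint_spec Q).specializes trivial)
    have e : (j ⁻¹ᵁ N).fromSpecStalkOfMem x hxO ≫ (j ∣_ N) =
        Spec.map (j.stalkMap x) ≫ N.fromSpecStalkOfMem (j x) hxN := by
      rw [← cancel_mono N.ι, Category.assoc, Category.assoc, morphismRestrict_ι,
        Scheme.Opens.fromSpecStalkOfMem_ι_assoc, Scheme.Opens.fromSpecStalkOfMem_ι,
        Scheme.SpecMap_stalkMap_fromSpecStalk]
    refine ext_of_isDominant_of_isSeparated sY ?_ ((j ⁻¹ᵁ N).fromSpecStalkOfMem x hxO) ?_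
    · rw [Category.assoc, hg2, morphismRestrict_ι_assoc, Category.assoc, hh]
    · rw [reassoc_of% e, ← hg1, Scheme.Opens.fromSpecStalkOfMem_ι_assoc]
      simp only [φ]
      rw [← Category.assoc (Spec.map _), ← Spec.map_comp, IsIso.inv_hom_id, Spec.map_id, Category.id_comp]
  choose N g hxN hg hres using key
  have hcomp : ∀ a b : Q, P.homOfLE inf_le_left ≫ g a =
      P.homOfLE (inf_le_right : N a ⊓ N b ≤ N b) ≫ g b := fun a b => by
    let O := N a ⊓ N b
    haveI : IsDominant (j ∣_ O) := IsZariskiLocalAtTarget.restrict (P := @IsDominant) ‹IsDominant j› O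
    refine ext_of_isDominant_of_isSeparated sY ?_ (j ∣_ O) ?_
    · rw [Category.assoc, Category.assoc, hg, hg, Scheme.homOfLE_ι_assoc, Scheme.homOfLE_ι_assoc]
    · have e : ∀ (M : P.Opens) (hle : O ≤ M),
          (j ∣_ O) ≫ P.homOfLE hle = Q.homOfLE (show j ⁻¹ᵁ O ≤ j ⁻¹ᵁ M from fun z hz => hle hz) ≫ (j ∣_ M) :=
        fun M hle => by
          rw [← cancel_mono M.ι, Category.assoc, Category.assoc, Scheme.homOfLE_ι, morphismRestrict_ι,
            morphismRestrict_ι, Scheme.homOfLE_ι_assoc]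
      rw [reassoc_of% (e (N a) inf_le_left), reassoc_of% (e (N b) inf_le_right), hres, hres,
        Scheme.homOfLE_ι_assoc, Scheme.homOfLE_ι_assoc]
  let 𝒰 := Scheme.Opens.iSupOpenCover N
  let c := 𝒰.glueMorphisms (Y := Y) g (fun a b => by
    have h1 := isPullback_opens_inf_le (le_iSup N a) (le_iSup N b)
    refine (cancel_epi h1.isoPullback.hom).mp ?_
    show h1.isoPullback.hom ≫ pullback.fst _ _ ≫ g a = h1.isoPullback.hom ≫ pullback.snd _ _ ≫ g b
    rw [h1.isoPullback_hom_fst_assoc, h1.isoPullback_hom_snd_assoc]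
    exact hcomp a b)
  have hc : ∀ a, P.homOfLE (le_iSup N a) ≫ c = g a := fun a => 𝒰.ι_glueMorphisms _ _ a
  have hN : Set.range j ⊆ ((⨆ a, N a : P.Opens) : Set P) := by
    rintro _ ⟨a, rfl⟩
    exact Opens.mem_iSup.mpr ⟨a, hxN a⟩
  let W : V.Opens := ⟨(p '' ((⨆ a, N a : P.Opens) : Set P)ᶜ)ᶜ,
    (p.isClosedMap _ (⨆ a, N a : P.Opens).isOpen.isClosed_compl).isOpen_compl⟩
  refine ⟨W, ⨆ a, N a, c, ?_, ?_, ?_, ?_⟩
  · rintro ⟨z, hz, hpz⟩
    exact hz (hN (by rw [hrange]; exact hpz))
  · intro z hz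
    by_contra hzN
    exact hz ⟨z, hzN, rfl⟩
  · refine 𝒰.hom_ext _ _ fun a => ?_
    show P.homOfLE (le_iSup N a) ≫ _ = P.homOfLE (le_iSup N a) ≫ _
    rw [reassoc_of% (hc a), Scheme.homOfLE_ι_assoc]
    exact hg a
  · intro l hl
    let a : Q := genericPoint Q
    haveI : Nonempty (j ⁻¹ᵁ N a) := ⟨⟨a, hxN a⟩⟩
    haveI : IsDominant (j ⁻¹ᵁ N a).ι := ⟨by
      rw [denseRange_iff_closure_range, Scheme.Opens.range_ι]
      exact ((j ⁻¹ᵁ N a).isOpen.dense ⟨a, hxN a⟩).closure_eq⟩
    refine ext_of_isDominant_of_isSeparated sY ?_ (j ⁻¹ᵁ N a).ι ?_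
    · rw [Category.assoc, hh]
      have : c ≫ sY = (⨆ a, N a).ι ≫ sP := by
        refine 𝒰.hom_ext _ _ fun b => ?_
        show P.homOfLE (le_iSup N b) ≫ _ = P.homOfLE (le_iSup N b) ≫ _
        rw [reassoc_of% (hc b), Scheme.homOfLE_ι_assoc]
        exact hg b
      rw [this, reassoc_of% hl]
    · have e : (j ⁻¹ᵁ N a).ι ≫ l = (j ∣_ N a) ≫ P.homOfLE (le_iSup N a) := by
        rw [← cancel_mono (⨆ a, N a).ι, Category.assoc, hl, Category.assoc, Scheme.homOfLE_ι, morphismRestrict_ι]
      rw [reassoc_of% e, hc, hres]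

/-- A line over the function field spreads to a projective line over a nonempty open. -/
theorem exists_spread_line {k : Type u} [Field k] {Y V : Scheme.{u}} (sY : Y ⟶ Spec (CommRingCat.of k))
    [IsSeparated sY] [LocallyOfFiniteType sY] (sV : V ⟶ Spec (CommRingCat.of k)) [IsIntegral V] [Smooth sV]
    (h : ProjSpaceOver 1 (Spec V.functionField) ⟶ Y)
    (hh : h ≫ sY = ProjSpaceOver.toBase 1 _ ≫ V.fromSpecStalk (genericPoint V) ≫ sV)
    [IrreducibleSpace (ProjSpaceOver 1 (Spec V.functionField))]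
    [IsReduced (ProjSpaceOver 1 (Spec V.functionField))] :
    ∃ (W : V.Opens) (hW : genericPoint V ∈ W) (g : ProjSpaceOver 1 (W : Scheme.{u}) ⟶ Y),
      g ≫ sY = ProjSpaceOver.toBase 1 _ ≫ W.ι ≫ sV ∧
      P1.toP1 (W.fromSpecStalkOfMem (genericPoint V) hW) ≫ g = h := by
  have hsm : Smooth (ProjSpaceOver.toBase 1 V ≫ sV) := inferInstance
  haveI : IsReduced (ProjSpaceOver 1 V) := H28Neron.isReduced_of_smooth (ProjSpaceOver.toBase 1 V ≫ sV)
  haveI : IsLocallyNoetherian (ProjSpaceOver 1 V) :=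
    LocallyOfFiniteType.isLocallyNoetherian (ProjSpaceOver.toBase 1 V ≫ sV)
  haveI : IsProper (ProjSpaceOver.toBase 1 V) := H27Weil.isProper_toBase 1 V
  have hsq : ∀ {A B : Scheme.{u}} (t : A ⟶ B),
      IsPullback (P1.toP1 t) (ProjSpaceOver.toBase 1 A) (ProjSpaceOver.toBase 1 B) t := fun t => by
    have e1 : P1.toP1 t ≫ pullback.fst _ _ = pullback.fst _ _ :=
      (pullback.lift_fst _ _ _).trans (Category.comp_id _)
    have e2 : P1.toP1 t ≫ ProjSpaceOver.toBase 1 _ = ProjSpaceOver.toBase 1 _ ≫ t := pullback.lift_snd _ _ _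
    refine IsPullback.of_right ?_ e2 (IsPullback.of_hasPullback _ _)
    rw [e1, specULiftZIsTerminal.hom_ext (t ≫ specULiftZIsTerminal.from _) (specULiftZIsTerminal.from _)]
    exact IsPullback.of_hasPullback _ _
  obtain ⟨W, N, g, hW, hWN, hg, hl⟩ := exists_spread_fibre sY (ProjSpaceOver.toBase 1 V)
    (ProjSpaceOver.toBase 1 V).isOpenMap (ProjSpaceOver.toBase 1 V ≫ sV) (P1.toP1 (V.fromSpecStalk (genericPoint V)))
    (ProjSpaceOver.toBase 1 _) (hsq _) h (by rw [hh, reassoc_of% (hsq (V.fromSpecStalk (genericPoint V))).w])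
  have hr : Set.range (P1.toP1 W.ι) ⊆ Set.range N.ι := by
    rw [Scheme.Opens.range_ι]
    rintro _ ⟨z, rfl⟩
    refine hWN ?_
    show (P1.toP1 W.ι ≫ ProjSpaceOver.toBase 1 V) z ∈ W
    rw [(hsq W.ι).w]
    exact (ProjSpaceOver.toBase 1 _ z).2
  let r := IsOpenImmersion.lift N.ι (P1.toP1 W.ι) hr
  refine ⟨W, hW, r ≫ g, ?_, ?_⟩
  · rw [Category.assoc, hg, IsOpenImmersion.lift_fac_assoc, reassoc_of% (hsq W.ι).w]
  · rw [← Category.assoc]
    refine hl _ ?_
    rw [Category.assoc, IsOpenImmersion.lift_fac]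
    refine pullback.hom_ext ?_ ?_
    · have he1 : ∀ {A B : Scheme.{u}} (t : A ⟶ B),
          P1.toP1 t ≫ pullback.fst (ProjSpace.toSpec 1 (ULift.{u} ℤ)) (specULiftZIsTerminal.from B) =
            pullback.fst _ _ := fun t => (pullback.lift_fst _ _ _).trans (Category.comp_id _)
      exact ((Category.assoc _ _ _).trans ((congrArg _ (he1 W.ι)).trans (he1 _))).trans (he1 _).symm
    · show (_ ≫ _) ≫ ProjSpaceOver.toBase 1 V = _ ≫ ProjSpaceOver.toBase 1 V
      rw [Category.assoc, (hsq W.ι).w, reassoc_of% (hsq (W.fromSpecStalkOfMem (genericPoint V) hW)).w,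
        Scheme.Opens.fromSpecStalkOfMem_ι, (hsq (V.fromSpecStalk (genericPoint V))).w]

end Groth.Agent.H25REq
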